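import Mathlib.Analysis.SpecialFunctions.Log.Base
import Mathlib.Analysis.Complex.ExponentialBounds

/-!
The arithmetic of the lower bound `p / (3 log p)` for the class number of a solvable group.
-/

set_option autoImplicit false

namespace CfsgLib.FitIndex

theorem five_le_logb {p : ℕ} (hp : 53 ≤ p) : (5 : ℝ) ≤ Real.logb 2 p := by
  rw [Real.le_logb_iff_rpow_le (by norm_num) (by positivity)]
  calc (2 : ℝ) ^ (5 : ℝ) = ((32 : ℕ) : ℝ) := by norm_num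
    _ ≤ p := by exact_mod_cast (by omega : 32 ≤ p)

theorem mul_rpow_le {L x : ℝ} (hL : 2 ≤ L) (hx : L ≤ x) : x * (2 : ℝ) ^ L ≤ L * (2 : ℝ) ^ x := by
  have hlog := Real.log_two_gt_d9
  have h1 : (x - L) * Real.log 2 + 1 ≤ (2 : ℝ) ^ (x - L) := by
    rw [Real.rpow_def_of_pos (by norm_num : (0 : ℝ) < 2), mul_comm]
    exact Real.add_one_le_exp _
  have h2 : x ≤ L * ((x - L) * Real.log 2 + 1) := by
    nlinarith [mul_le_mul_of_nonneg_left (show (1 : ℝ) ≤ L * Real.log 2 by nlinarith) (sub_nonneg.2 hx)]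
  have h3 : x ≤ L * (2 : ℝ) ^ (x - L) := h2.trans (mul_le_mul_of_nonneg_left h1 (by linarith))
  calc x * (2 : ℝ) ^ L ≤ L * (2 : ℝ) ^ (x - L) * (2 : ℝ) ^ L :=
        mul_le_mul_of_nonneg_right h3 (by positivity)
    _ = L * (2 : ℝ) ^ x := by rw [mul_assoc, ← Real.rpow_add (by norm_num)]; ring_nf

theorem exp_mul_le {p q e : ℕ} (hp : 53 ≤ p) (hpq : p ≤ q) (he : 2 ^ e ≤ q) :
    (e : ℝ) * p ≤ Real.logb 2 p * q := by
  have hL := five_le_logb hp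
  have hpq' : (p : ℝ) ≤ q := by exact_mod_cast hpq
  rcases le_total (e : ℝ) (Real.logb 2 p) with h | h
  · exact mul_le_mul h hpq' (by positivity) (by linarith)
  have h1 := mul_rpow_le (by linarith) h
  rw [Real.rpow_logb (by norm_num) (by norm_num) (by positivity), Real.rpow_natCast] at h1
  refine h1.trans (mul_le_mul_of_nonneg_left ?_ (by linarith))
  exact_mod_cast he

theorem exp_sq_mul_le {p q e : ℕ} (hp : 53 ≤ p) (he : 2 ^ e ≤ q) (h : 2 * Real.logb 2 p ≤ e) :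
    (e : ℝ) ^ 2 * (p : ℝ) ^ 2 ≤ 4 * Real.logb 2 p ^ 2 * q := by
  have hL := five_le_logb hp
  have h1 := mul_rpow_le (L := Real.logb 2 p) (x := (e : ℝ) / 2) (by linarith) (by linarith)
  rw [Real.rpow_logb (by norm_num) (by norm_num) (by positivity)] at h1
  have h2 := mul_self_le_mul_self (by positivity) h1
  have h3 : ((2 : ℝ) ^ ((e : ℝ) / 2)) * ((2 : ℝ) ^ ((e : ℝ) / 2)) = (2 : ℝ) ^ e := by
    rw [← Real.rpow_add (by norm_num), add_halves, Real.rpow_natCast]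
  have hq : (2 : ℝ) ^ e ≤ q := by exact_mod_cast he
  have h4 : Real.logb 2 p ^ 2 * (2 : ℝ) ^ e ≤ Real.logb 2 p ^ 2 * q :=
    mul_le_mul_of_nonneg_left hq (by positivity)
  rw [show Real.logb 2 p * (2 : ℝ) ^ ((e : ℝ) / 2) * (Real.logb 2 p * (2 : ℝ) ^ ((e : ℝ) / 2)) =
    Real.logb 2 p ^ 2 * ((2 : ℝ) ^ ((e : ℝ) / 2) * (2 : ℝ) ^ ((e : ℝ) / 2)) by ring, h3] at h2
  nlinarith

theorem pow_four_le_two_pow : ∀ {e : ℕ}, 7 ≤ e → e ^ 4 ≤ 25 * 2 ^ e := by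
  intro e he
  induction e, he using Nat.le_induction with
  | base => norm_num
  | succ e he ih =>
    have h1 : 7 * e ^ 3 ≤ e ^ 4 := by rw [pow_succ' e 3]; exact Nat.mul_le_mul_right _ he
    have h2 : 7 * e ^ 2 ≤ e ^ 3 := by rw [pow_succ' e 2]; exact Nat.mul_le_mul_right _ he
    have h3 : 7 * e ≤ e ^ 2 := by rw [sq]; exact Nat.mul_le_mul_right _ he
    have h4 : (e + 1) ^ 4 = e ^ 4 + 4 * e ^ 3 + 6 * e ^ 2 + 4 * e + 1 := by ring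
    rw [h4, pow_succ 2 e]
    omega

theorem pow_four_le {q e : ℕ} (hq : 107 ≤ q) (he : 2 ^ e ≤ q) : e ^ 4 ≤ 25 * q := by
  rcases Nat.lt_or_ge e 7 with h | h
  · calc e ^ 4 ≤ 6 ^ 4 := Nat.pow_le_pow_left (by omega) 4
      _ ≤ 25 * q := by omega
  · exact (pow_four_le_two_pow h).trans (Nat.mul_le_mul_left 25 he)

theorem two_le_case {p q e t m T K : ℕ} (hp : 53 ≤ p) (hq : 107 ≤ q) (he : 2 ^ e ≤ q) (ht : 2 ≤ t)
    (htm : t ≤ m) (hT : T ^ 3 ≤ 24 ^ (m - 1)) (h1 : p ^ t ≤ K * (e ^ t * T) + 1)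
    (h2 : q ^ m ≤ K ^ 2 * (e ^ t * T) ^ 2 + 1) (hK : 15 * K < p) : False := by
  obtain ⟨v, rfl⟩ : ∃ v, t = 2 + v := ⟨t - 2, by omega⟩
  obtain ⟨w, rfl⟩ : ∃ w, m = 2 + v + w := ⟨m - (2 + v), by omega⟩
  have hT4 : T ^ 4 ≤ 70 ^ (1 + v + w) := by
    refine le_of_pow_le_pow_left₀ (by norm_num : (3 : ℕ) ≠ 0) (Nat.zero_le _) ?_
    calc (T ^ 4) ^ 3 = (T ^ 3) ^ 4 := by ring
      _ ≤ (24 ^ (2 + v + w - 1)) ^ 4 := Nat.pow_le_pow_left hT 4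
      _ = (24 ^ 4) ^ (1 + v + w) := by rw [← pow_mul, ← pow_mul]; congr 1; omega
      _ ≤ (70 ^ 3) ^ (1 + v + w) := Nat.pow_le_pow_left (by norm_num) _
      _ = (70 ^ (1 + v + w)) ^ 3 := by rw [← pow_mul, ← pow_mul, mul_comm]
  have hpt : 1001 ≤ p ^ (2 + v) := by
    calc 1001 ≤ 53 ^ 2 := by norm_num
      _ ≤ p ^ 2 := Nat.pow_le_pow_left hp 2
      _ ≤ p ^ (2 + v) := Nat.pow_le_pow_right (by omega) (by omega)
  have hqm : 1001 ≤ q ^ (2 + v + w) := by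
    calc 1001 ≤ 107 ^ 2 := by norm_num
      _ ≤ q ^ 2 := Nat.pow_le_pow_left hq 2
      _ ≤ q ^ (2 + v + w) := Nat.pow_le_pow_right (by omega) (by omega)
  have a1 : 1000 * p ^ (2 + v) ≤ 1001 * (K * (e ^ (2 + v) * T)) := by omega
  have a2 : 1000 * q ^ (2 + v + w) ≤ 1001 * (K ^ 2 * (e ^ (2 + v) * T) ^ 2) := by omega
  have a3 : 1000 ^ 3 * (q ^ 2 * p ^ 4 * ((q * p ^ 2) ^ v * q ^ w)) ≤
      1001 ^ 3 * (K ^ 4 * e ^ 8 * 70 * ((70 * e ^ 4) ^ v * 70 ^ w)) := by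
    calc 1000 ^ 3 * (q ^ 2 * p ^ 4 * ((q * p ^ 2) ^ v * q ^ w))
        = (1000 * p ^ (2 + v)) ^ 2 * (1000 * q ^ (2 + v + w)) := by ring
      _ ≤ (1001 * (K * (e ^ (2 + v) * T))) ^ 2 * (1001 * (K ^ 2 * (e ^ (2 + v) * T) ^ 2)) :=
          Nat.mul_le_mul (Nat.pow_le_pow_left a1 2) a2
      _ = 1001 ^ 3 * (K ^ 4 * e ^ (4 * (2 + v)) * T ^ 4) := by ring
      _ ≤ 1001 ^ 3 * (K ^ 4 * e ^ (4 * (2 + v)) * 70 ^ (1 + v + w)) :=
          Nat.mul_le_mul_left _ (Nat.mul_le_mul_left _ hT4)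
      _ = _ := by ring
  have he4 := pow_four_le hq he
  have hX : (70 * e ^ 4) ^ v * 70 ^ w ≤ (q * p ^ 2) ^ v * q ^ w := by
    refine Nat.mul_le_mul (Nat.pow_le_pow_left ?_ v) (Nat.pow_le_pow_left (by omega) w)
    calc 70 * e ^ 4 ≤ 70 * (25 * q) := Nat.mul_le_mul_left _ he4
      _ ≤ 53 ^ 2 * q := by omega
      _ ≤ p ^ 2 * q := Nat.mul_le_mul_right _ (Nat.pow_le_pow_left hp 2)
      _ = _ := mul_comm _ _
  have hXpos : 0 < (q * p ^ 2) ^ v * q ^ w := by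
    have : 0 < q := by omega
    have : 0 < p := by omega
    positivity
  have a4 : 1000 ^ 3 * (q ^ 2 * p ^ 4) ≤ 1001 ^ 3 * (K ^ 4 * e ^ 8 * 70) := by
    refine Nat.le_of_mul_le_mul_right ?_ hXpos
    calc 1000 ^ 3 * (q ^ 2 * p ^ 4) * ((q * p ^ 2) ^ v * q ^ w)
        = 1000 ^ 3 * (q ^ 2 * p ^ 4 * ((q * p ^ 2) ^ v * q ^ w)) := by ring
      _ ≤ _ := a3
      _ = 1001 ^ 3 * (K ^ 4 * e ^ 8 * 70) * ((70 * e ^ 4) ^ v * 70 ^ w) := by ring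
      _ ≤ _ := Nat.mul_le_mul_left _ hX
  have a5 : 1000 ^ 3 * 50625 * (q ^ 2 * p ^ 4) ≤ 1001 ^ 3 * 70 * 625 * (q ^ 2 * p ^ 4) := by
    calc 1000 ^ 3 * 50625 * (q ^ 2 * p ^ 4) = 50625 * (1000 ^ 3 * (q ^ 2 * p ^ 4)) := by ring
      _ ≤ 50625 * (1001 ^ 3 * (K ^ 4 * e ^ 8 * 70)) := Nat.mul_le_mul_left _ a4
      _ = 1001 ^ 3 * 70 * ((e ^ 4) ^ 2 * (15 * K) ^ 4) := by ring
      _ ≤ 1001 ^ 3 * 70 * ((25 * q) ^ 2 * p ^ 4) :=
          Nat.mul_le_mul_left _ (Nat.mul_le_mul (Nat.pow_le_pow_left he4 2) (Nat.pow_le_pow_left hK.le 4))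
      _ = _ := by ring
  have : 0 < q ^ 2 * p ^ 4 := by
    have : 0 < q := by omega
    have : 0 < p := by omega
    positivity
  have := Nat.le_of_mul_le_mul_right a5 this
  norm_num at this

/-- The arithmetic. -/
theorem class_bound_arith {p q e t m T K : ℕ} (hp : 53 ≤ p) (hpq : p ≤ q) (hq : 107 ≤ q) (he : 2 ^ e ≤ q)
    (ht : 1 ≤ t) (htm : t ≤ m) (hT : T ^ 3 ≤ 24 ^ (m - 1)) (h1 : p ^ t ≤ K * (e ^ t * T) + 1)
    (h2 : q ^ m ≤ K ^ 2 * (e ^ t * T) ^ 2 + 1) : (p : ℝ) ≤ 3 * Real.logb 2 p * K := by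
  by_contra hlt
  push Not at hlt
  have hL := five_le_logb hp
  set L := Real.logb 2 p
  have hK : 15 * K < p := by
    have : ((15 * K : ℕ) : ℝ) < p := by
      push_cast
      have : (0 : ℝ) ≤ K := Nat.cast_nonneg K
      nlinarith
    exact_mod_cast this
  rcases Nat.lt_or_ge t 2 with ht2 | ht2
  swap
  · exact two_le_case hp hq he ht2 htm hT h1 h2 hK
  obtain rfl : t = 1 := by omega
  rw [pow_one] at h2
  rw [pow_one, pow_one] at h1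
  have hK0 : (0 : ℝ) ≤ K := Nat.cast_nonneg K
  rcases Nat.lt_or_ge m 2 with hm | hm
  · obtain rfl : m = 1 := by omega
    have hT1 : T ≤ 1 := (Nat.le_self_pow (by norm_num : (3 : ℕ) ≠ 0) T).trans hT
    have b1 : (p : ℝ) ≤ K * e + 1 := by
      exact_mod_cast h1.trans (Nat.add_le_add_right (Nat.mul_le_mul_left K (by
        simpa using Nat.mul_le_mul_left e hT1)) 1)
    have b2 : (q : ℝ) ≤ (K : ℝ) ^ 2 * (e : ℝ) ^ 2 + 1 := by
      rw [pow_one] at h2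
      exact_mod_cast h2.trans (Nat.add_le_add_right (Nat.mul_le_mul_left _ (Nat.pow_le_pow_left (by
        simpa using Nat.mul_le_mul_left e hT1) 2)) 1)
    have hp' : (53 : ℝ) ≤ p := by exact_mod_cast hp
    have hq' : (107 : ℝ) ≤ q := by exact_mod_cast hq
    have h2L : 2 * L ≤ e := by
      by_contra hc
      push Not at hc
      have : (K : ℝ) * e ≤ K * (2 * L) := mul_le_mul_of_nonneg_left hc.le hK0
      nlinarith
    have b3 := exp_sq_mul_le hp he h2L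
    have b4 : (3 * L * K) ^ 2 * (e : ℝ) ^ 2 ≤ (p : ℝ) ^ 2 * (e : ℝ) ^ 2 :=
      mul_le_mul_of_nonneg_right (pow_le_pow_left₀ (by positivity) hlt.le 2) (by positivity)
    have b5 : 9 * L ^ 2 * q ≤ 9 * L ^ 2 * ((K : ℝ) ^ 2 * (e : ℝ) ^ 2 + 1) :=
      mul_le_mul_of_nonneg_left b2 (by positivity)
    have b6 : L ^ 2 * (5 * q - 9) ≤ 0 := by nlinarith
    nlinarith [mul_pos (pow_pos (show (0 : ℝ) < L by linarith) 2) (show (0 : ℝ) < 5 * q - 9 by linarith)]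
  have hKe : 3 * (K * e) ≤ q := by
    have h := exp_mul_le hp hpq he
    have h' : 3 * L * K * (e : ℝ) ≤ p * e := mul_le_mul_of_nonneg_right hlt.le (Nat.cast_nonneg e)
    have : (3 * ((K : ℝ) * e)) * L ≤ (q : ℝ) * L := by linarith
    exact_mod_cast le_of_mul_le_mul_right this (by linarith)
  have h3 : 9 * (q ^ m) ≤ q ^ 2 * T ^ 2 + 9 := by
    calc 9 * q ^ m ≤ 9 * (K ^ 2 * (e * T) ^ 2 + 1) := Nat.mul_le_mul_left 9 h2
      _ = (3 * (K * e)) ^ 2 * T ^ 2 + 9 := by ring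
      _ ≤ q ^ 2 * T ^ 2 + 9 := Nat.add_le_add_right (Nat.mul_le_mul_right _ (Nat.pow_le_pow_left hKe 2)) 9
  have hq2 : 11449 ≤ q ^ 2 := le_trans (by norm_num) (Nat.pow_le_pow_left hq 2)
  rcases hm.eq_or_lt with rfl | hm3
  · have hT2 : T ≤ 2 := by
      by_contra hc
      have := Nat.pow_le_pow_left (show 3 ≤ T by omega) 3
      norm_num at hT
      omega
    have : q ^ 2 * T ^ 2 ≤ q ^ 2 * 4 := Nat.mul_le_mul_left _ (Nat.pow_le_pow_left hT2 2)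
    omega
  obtain ⟨u, hu, rfl⟩ : ∃ u, 1 ≤ u ∧ m = 2 + u := ⟨m - 2, by omega, by omega⟩
  have hT2 : T ^ 2 ≤ 9 ^ (u + 1) := by
    refine le_of_pow_le_pow_left₀ (by norm_num : (3 : ℕ) ≠ 0) (Nat.zero_le _) ?_
    calc (T ^ 2) ^ 3 = (T ^ 3) ^ 2 := by ring
      _ ≤ (24 ^ (2 + u - 1)) ^ 2 := Nat.pow_le_pow_left hT 2
      _ = (24 ^ 2) ^ (u + 1) := by rw [← pow_mul, ← pow_mul]; congr 1; omega
      _ ≤ (9 ^ 3) ^ (u + 1) := Nat.pow_le_pow_left (by norm_num) _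
      _ = (9 ^ (u + 1)) ^ 3 := by rw [← pow_mul, ← pow_mul, mul_comm]
  have h4 : 9 * (q ^ 2 * q ^ u) ≤ 9 * (q ^ 2 * 9 ^ u) + 9 := by
    calc 9 * (q ^ 2 * q ^ u) = 9 * q ^ (2 + u) := by rw [pow_add]
      _ ≤ _ := h3
      _ ≤ q ^ 2 * 9 ^ (u + 1) + 9 := Nat.add_le_add_right (Nat.mul_le_mul_left _ hT2) 9
      _ = _ := by ring
  have h5 : 9 ^ u + 1 ≤ q ^ u :=
    (Nat.pow_lt_pow_left (by omega : 9 < q) (by omega))
  have h6 := Nat.mul_le_mul_left (q ^ 2) h5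
  rw [Nat.mul_add, mul_one] at h6
  omega

end CfsgLib.FitIndex
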