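import Cfsg.Agent.SolvLinK.Classes
import Cfsg.Agent.SolvLinK.Arith
import Mathlib.FieldTheory.Finite.Basic
import Mathlib.GroupTheory.OrderOfElement

/-!
Counting lemmas for the lower bound `p / (3 log p)` of the class number.
-/

set_option autoImplicit false
set_option linter.style.haveILetI false
set_option linter.unusedSectionVars false

namespace CfsgLib.FitIndex

open CfsgLib.SolvLinK

/-- A subgroup whose elements have centralisers containing `C` meets few elements in each class. -/
theorem card_le_classes {H : Type*} [Group H] [Finite H] (A C : Subgroup H)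
    (hC : ∀ c ∈ C, ∀ a ∈ A, c * a = a * c) :
    Nat.card A ≤ Nat.card (ConjClasses H) * C.index + 1 := by
  classical
  haveI := Fintype.ofFinite H
  haveI := Fintype.ofFinite (ConjClasses H)
  have h : ((Finset.univ.filter fun g : H => g ∈ A).erase 1).card ≤
      (Finset.univ : Finset (ConjClasses H)).card * C.index := by
    rw [mul_comm]
    refine Finset.card_le_mul_card_image_of_maps_to (f := ConjClasses.mk) (fun g _ => Finset.mem_univ _) _
      fun D _ => ?_
    rcases ((((Finset.univ.filter fun g : H => g ∈ A).erase 1).filter fun g => ConjClasses.mk g = D)).eq_empty_or_nonempty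
      with h | ⟨g, hg⟩
    · rw [h, Finset.card_empty]; exact Nat.zero_le _
    rw [Finset.mem_filter, Finset.mem_erase, Finset.mem_filter] at hg
    refine le_trans ?_ (Nat.le_of_dvd (Nat.pos_of_ne_zero Subgroup.index_ne_zero_of_finite)
      (Subgroup.index_dvd_of_le (H := C) (K := Subgroup.centralizer ({g} : Set H)) fun c hc => by
        rw [Subgroup.mem_centralizer_singleton_iff]; exact hC c hc g hg.1.2.2))
    rw [← carrier_card, Nat.card_coe_set_eq, ← Set.ncard_coe_finset]
    refine Set.ncard_le_ncard fun x hx => ?_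
    rw [Finset.mem_coe, Finset.mem_filter] at hx
    exact ConjClasses.mem_carrier_iff_mk_eq.2 (hx.2.trans hg.2.symm)
  rw [Finset.card_erase_of_mem (by simp [A.one_mem]), Finset.card_univ, ← Nat.card_eq_fintype_card,
    ← Fintype.card_subtype, ← Nat.card_eq_fintype_card] at h
  have : Nat.card A = Nat.card {g : H // g ∈ A} := rfl
  omega

/-- A few homomorphisms separate a `p`-group. -/
theorem exists_separating {A M O : Type*} [Group A] [Finite A] [Group M] [DecidableEq O] {p : ℕ}
    [hp : Fact p.Prime] (f : O → A →* M) (hf : ∀ a, (∀ o, f o a = 1) → a = 1) :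
    ∀ (s : ℕ) (A' : Subgroup A), Nat.card A' = p ^ s →
      ∃ B : Finset O, B.card ≤ s ∧ ∀ a ∈ A', (∀ o ∈ B, f o a = 1) → a = 1 := by
  intro s
  induction s using Nat.strong_induction_on with
  | _ s ih =>
    intro A' hs
    by_cases hA : A' = ⊥
    · exact ⟨∅, Nat.zero_le _, fun a ha _ => Subgroup.mem_bot.1 (hA ▸ ha)⟩
    obtain ⟨a, ha, ha1⟩ := (Subgroup.bot_or_exists_ne_one A').resolve_left hA
    obtain ⟨o, ho⟩ : ∃ o, f o a ≠ 1 := by
      by_contra hc
      push Not at hc
      exact ha1 (hf a hc)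
    have hle : A' ⊓ (f o).ker ≤ A' := inf_le_left
    obtain ⟨s', hs', hcard⟩ := (Nat.dvd_prime_pow hp.out).1 (hs ▸ Subgroup.card_dvd_of_le hle)
    have hlt : s' < s := by
      rcases hs'.eq_or_lt with rfl | h
      · exact absurd ((Subgroup.eq_of_le_of_card_ge hle (by rw [hs, hcard])).ge ha).2 ho
      · exact h
    obtain ⟨B, hB, hsep⟩ := ih s' hlt _ hcard
    exact ⟨insert o B, (Finset.card_insert_le o B).trans (by omega), fun x hx hall =>
      hsep x ⟨hx, hall o (Finset.mem_insert_self o B)⟩ fun o' ho' => hall o' (Finset.mem_insert_of_mem ho')⟩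

theorem two_pow_six {e : ℕ} (h1 : 53 < 2 ^ e) (h2 : 2 ^ e < 128) : e = 6 := by
  have h7 : e < 7 := (Nat.pow_lt_pow_iff_right (a := 2) (by norm_num)).1 (h2.trans_le (by norm_num))
  interval_cases e <;> omega

/-- The field generated by the `p`-th roots of unity is large. -/
theorem field_size {p r e : ℕ} (hp : p.Prime) (hr : r.Prime) (he : 1 ≤ e) (h53 : 53 ≤ p) (hd : p ∣ r ^ e - 1) :
    p ≤ r ^ e ∧ 107 ≤ r ^ e ∧ 2 ^ e ≤ r ^ e := by
  have h2 : 2 ^ e ≤ r ^ e := Nat.pow_le_pow_left hr.two_le e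
  have hq2 : 2 ≤ r ^ e := hr.two_le.trans (Nat.le_self_pow (by omega) r)
  obtain ⟨c, hc⟩ := hd
  rcases Nat.lt_or_ge c 2 with hc2 | hc2
  swap
  · have := Nat.mul_le_mul_left p hc2
    exact ⟨by omega, by omega, h2⟩
  obtain rfl : c = 1 := by
    rcases (by omega : c = 0 ∨ c = 1) with rfl | rfl
    · omega
    · rfl
  rw [mul_one] at hc
  refine ⟨by omega, ?_, h2⟩
  by_contra h107
  rcases hr.eq_two_or_odd' with rfl | hodd
  · obtain rfl := two_pow_six (e := e) (by omega) (by omega)
    obtain rfl : p = 63 := by omega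
    norm_num at hp
  · have h1 : Odd (r ^ e) := hodd.pow
    have h3 : Odd p := hp.odd_of_ne_two (by omega)
    obtain ⟨u, hu⟩ := h1
    obtain ⟨v, hv⟩ := h3
    omega

theorem gB_le_pow {q μ : ℕ} (hq : 11 ≤ q) (hμ : 1 ≤ μ) : (q : ℚ) * gB μ ≤ (q : ℚ) ^ μ := by
  rcases hμ.eq_or_lt with rfl | h
  · rw [show gB 1 = 1 by rfl, mul_one, pow_one]
  obtain ⟨u, rfl⟩ : ∃ u, μ = u + 2 := ⟨μ - 2, by omega⟩
  have hq' : (11 : ℚ) ≤ q := by exact_mod_cast hq
  have h1 := gB_le (show 2 ≤ u + 2 by omega)
  rw [Nat.add_sub_cancel] at h1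
  have h2 : (11 : ℚ) ^ u ≤ (q : ℚ) ^ u := pow_le_pow_left₀ (by norm_num) hq' u
  calc (q : ℚ) * gB (u + 2) ≤ q * (8 * 11 ^ u) := mul_le_mul_of_nonneg_left h1 (by linarith)
    _ ≤ q * (q * q ^ u) := mul_le_mul_of_nonneg_left (mul_le_mul (by linarith) h2 (by positivity) (by linarith))
        (by linarith)
    _ = _ := by ring

end CfsgLib.FitIndex
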