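import Cfsg.Agent.FitIndex.Weights
import Cfsg.Agent.Solvable.PGroupBasic
import Mathlib.FieldTheory.IsAlgClosed.AlgebraicClosure
import Mathlib.LinearAlgebra.Matrix.ToLin
import Mathlib.Algebra.CharP.Frobenius
import Mathlib.GroupTheory.PGroup
import Mathlib.FieldTheory.Finiteness

/-!
From a finite field to its algebraic closure.
-/

set_option autoImplicit false
set_option linter.style.haveILetI false
set_option linter.unusedSectionVars false

namespace CfsgLib.FitIndex

open Module CfsgLib.SolvLinK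

universe u v

variable {r : ℕ} [hrp : Fact r.Prime] {H : Type u} [Group H] [Finite H] {V : Type v} [AddCommGroup V]
  [Module (ZMod r) V] [Finite V]

/-- The fixed vectors of a subgroup. -/
def fixV (π : H →* Module.End (ZMod r) V) (A : Subgroup H) : Submodule (ZMod r) V where
  carrier := {v | ∀ a ∈ A, π a v = v}
  add_mem' := fun {v w} hv hw a ha => by rw [map_add, hv a ha, hw a ha]
  zero_mem' := fun a _ => map_zero (π a)
  smul_mem' := fun c v hv a ha => by rw [map_smul, hv a ha]

theorem fixV_eq_bot {π : H →* Module.End (ZMod r) V} (hinj : Function.Injective π) (hirr : IsIrr π)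
    (A : Subgroup H) [hA : A.Normal] (hA1 : A ≠ ⊥) : fixV π A = ⊥ := by
  have hinv : Invt π (fixV π A) := fun g v hv a ha => by
    rw [rep_conj_apply, hv _ (by simpa using hA.conj_mem a ha g⁻¹)]
  refine (hirr.2 _ hinv).resolve_right fun h => hA1 ?_
  rw [eq_bot_iff]
  intro a ha
  exact Subgroup.mem_bot.2 (hinj (LinearMap.ext fun v => by
    rw [map_one, Module.End.one_apply]; exact (h.ge (Submodule.mem_top : v ∈ ⊤)) a ha))

theorem pCore_eq_bot {π : H →* Module.End (ZMod r) V} (hinj : Function.Injective π) (hirr : IsIrr π) :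
    Cfsg.pCore r H = ⊥ := by
  by_contra h
  letI : MulAction (Cfsg.pCore r H) V :=
    { smul := fun g v => π g v
      one_smul := fun v => by show π (1 : H) v = v; rw [map_one]; rfl
      mul_smul := fun g g' v => by show π ((g : H) * g') v = π g (π g' v); rw [map_mul]; rfl }
  have hdvd : r ∣ Nat.card V := by
    haveI : Nontrivial V := by
      obtain ⟨v, -, hv⟩ := (Submodule.ne_bot_iff _).1 hirr.1
      exact ⟨⟨v, 0, hv⟩⟩
    rw [Module.natCard_eq_pow_finrank (K := ZMod r) (V := V), Nat.card_zmod]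
    exact dvd_pow_self r Module.finrank_pos.ne'
  obtain ⟨b, hb, hne⟩ := (CfsgLib.Solvable.isPGroup_pCore (G := H) r).exists_fixed_point_of_prime_dvd_card_of_fixed_point
    V hdvd (a := 0) (fun g => map_zero (π g))
  have hmem : b ∈ fixV π (Cfsg.pCore r H) := fun a ha => hb ⟨a, ha⟩
  rw [fixV_eq_bot hinj hirr _ h, Submodule.mem_bot] at hmem
  exact hne hmem.symm

/-- The bound for a linear group over a finite field. -/
theorem finite_field_bound (π : H →* Module.End (ZMod r) V) (hinj : Function.Injective π) (hirr : IsIrr π)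
    (hsol : Group.IsSolvable H) {p : ℕ} [hpp : Fact p.Prime] (h53 : 53 ≤ p) (hP : Cfsg.pCore p H ≠ ⊥) {K : ℕ}
    (hkK : Nat.card (ConjClasses H) ≤ K) (hV : Nat.card V ≤ Nat.card H * K + 1) :
    (p : ℝ) ≤ 3 * Real.logb 2 p * K := by
  classical
  have hr := hrp.out
  have hcore := pCore_eq_bot hinj hirr
  have hpr : p ≠ r := fun h => hP (by subst h; exact hcore)
  -- the subgroup
  set P := Cfsg.pCore p H
  haveI : Nontrivial P := (Subgroup.nontrivial_iff_ne_bot P).2 hP
  have hPp : IsPGroup p P := CfsgLib.Solvable.isPGroup_pCore p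
  haveI := hPp.center_nontrivial
  let Z := (Subgroup.center P).map P.subtype
  haveI hZn : Z.Normal := ConjAct.normal_of_characteristic_of_normal
  have hZc : ∀ a ∈ Z, ∀ b ∈ Z, a * b = b * a := by
    rintro _ ⟨a, ha, rfl⟩ _ ⟨b, -, rfl⟩
    exact (congrArg Subtype.val (Subgroup.mem_center_iff.1 ha b)).symm
  let A : Subgroup H :=
    { carrier := {x | x ∈ Z ∧ x ^ p = 1}
      one_mem' := ⟨Z.one_mem, one_pow p⟩
      mul_mem' := fun {a b} ha hb => ⟨Z.mul_mem ha.1 hb.1, by
        rw [Commute.mul_pow (hZc a ha.1 b hb.1), ha.2, hb.2, one_mul]⟩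
      inv_mem' := fun {a} ha => ⟨Z.inv_mem ha.1, by rw [inv_pow, ha.2, inv_one]⟩ }
  haveI hAn : A.Normal := ⟨fun a ha g => ⟨hZn.conj_mem a ha.1 g, by rw [conj_pow, ha.2, mul_one, mul_inv_cancel]⟩⟩
  have hA1 : A ≠ ⊥ := by
    intro h
    have hdvd : p ∣ Nat.card (Subgroup.center P) := by
      obtain ⟨n, hn⟩ := IsPGroup.iff_card.1 (hPp.to_subgroup (Subgroup.center P))
      have h2 := Finite.one_lt_card (α := Subgroup.center P)
      rw [hn] at h2 ⊢
      exact dvd_pow_self p (by rintro rfl; simp at h2)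
    obtain ⟨z, hz⟩ := exists_prime_orderOf_dvd_card' p hdvd
    have hzA : ((z : P) : H) ∈ A := ⟨⟨(z : P), z.2, rfl⟩, by
      rw [← Subgroup.coe_pow, ← Subgroup.coe_pow, ← hz, pow_orderOf_eq_one]; rfl⟩
    rw [h, Subgroup.mem_bot] at hzA
    have h1 : z = 1 := Subtype.ext (Subtype.ext hzA)
    rw [h1, orderOf_one] at hz
    exact hpp.out.ne_one hz.symm
  -- coordinates
  haveI : Module.Finite (ZMod r) V := Module.Finite.of_finite
  set a := Module.finrank (ZMod r) V with ha
  let ε : V ≃ₗ[ZMod r] (Fin a → ZMod r) := (Module.finBasis (ZMod r) V).equivFun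
  let ρ : H →* Module.End (ZMod r) (Fin a → ZMod r) :=
    { toFun := fun h => ε.toLinearMap ∘ₗ π h ∘ₗ ε.symm.toLinearMap
      map_one' := LinearMap.ext fun x => by simp
      map_mul' := fun h h' => LinearMap.ext fun x => by simp }
  let M : H →* Matrix (Fin a) (Fin a) (ZMod r) :=
    (LinearMap.toMatrixAlgEquiv' : Module.End (ZMod r) (Fin a → ZMod r) ≃ₐ[ZMod r] _).toAlgHom.toMonoidHom.comp ρ
  have hM : ∀ h x, (M h).mulVec x = ε (π h (ε.symm x)) := fun h x => by
    show (LinearMap.toMatrixAlgEquiv' (ρ h)).mulVec x = _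
    rw [← Matrix.toLinAlgEquiv'_apply, Matrix.toLinAlgEquiv'_toMatrixAlgEquiv']
    rfl
  let k := AlgebraicClosure (ZMod r)
  haveI : CharP k r := charP_of_injective_algebraMap (algebraMap (ZMod r) k).injective r
  haveI : ExpChar k r := ExpChar.prime hr
  let ι : ZMod r →+* k := algebraMap _ _
  let σ : H →* Module.End k (Fin a → k) :=
    (Matrix.toLinAlgEquiv' : Matrix (Fin a) (Fin a) k ≃ₐ[k] _).toAlgHom.toMonoidHom.comp
      (ι.mapMatrix.toMonoidHom.comp M)
  have hσ : ∀ h x, σ h x = ((M h).map ι).mulVec x := fun h x => Matrix.toLinAlgEquiv'_apply _ _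
  have hMinj : Function.Injective M := fun g g' h => hinj (LinearMap.ext fun v => ε.injective (by
    have h1 := congrArg (fun X => Matrix.mulVec X (ε v)) h
    simpa [hM] using h1))
  have hσinj : Function.Injective σ := fun g g' h => hMinj (Matrix.map_injective ι.injective
    ((Matrix.toLinAlgEquiv' : Matrix (Fin a) (Fin a) k ≃ₐ[k] _).injective h))
  -- the semilinear map
  let τ : (Fin a → k) →+ (Fin a → k) :=
    { toFun := fun x i => frobenius k r (x i)
      map_zero' := funext fun i => map_zero (frobenius k r)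
      map_add' := fun x y => funext fun i => map_add (frobenius k r) _ _ }
  have hτ : Function.Bijective τ :=
    ⟨fun x y h => funext fun i => (frobenius k r).injective (congrFun h i),
      fun y => ⟨fun i => (IsAlgClosed.exists_pow_nat_eq (y i) hr.pos).choose,
        funext fun i => (IsAlgClosed.exists_pow_nat_eq (y i) hr.pos).choose_spec⟩⟩
  have hτs : ∀ (c : k) v, τ (c • v) = c ^ r • τ v := fun c v => funext fun i => map_mul (frobenius k r) c (v i)
  have hτσ : ∀ g v, σ g (τ v) = τ (σ g v) := fun g v => funext fun i => by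
    show σ g (τ v) i = frobenius k r (σ g v i)
    rw [hσ, hσ, Matrix.mulVec, Matrix.mulVec, dotProduct, dotProduct, map_sum]
    refine Finset.sum_congr rfl fun j _ => ?_
    rw [map_mul]
    congr 1
    rw [Matrix.map_apply, frobenius_def, ← map_pow, ZMod.pow_card]
  -- no fixed vectors
  haveI := Fintype.ofFinite A
  have hAp : IsPGroup p A := fun x => ⟨1, Subtype.ext (by rw [pow_one, Subgroup.coe_pow]; exact x.2.2)⟩
  have hsum : ∑ x : A, M x = 0 := by
    have hz : ∑ x : A, π x = 0 := LinearMap.ext fun v => by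
      rw [LinearMap.zero_apply, LinearMap.sum_apply]
      have : ∑ x : A, π x v ∈ fixV π A := fun b hb => by
        rw [map_sum]
        refine Fintype.sum_equiv (Equiv.mulLeft (⟨b, hb⟩ : A)) _ _ fun x => ?_
        rw [← Module.End.mul_apply, ← map_mul]
        rfl
      rwa [fixV_eq_bot hinj hirr A hA1, Submodule.mem_bot] at this
    refine Matrix.toLinAlgEquiv'.injective (LinearMap.ext fun x => ?_)
    rw [map_sum, LinearMap.sum_apply, map_zero, LinearMap.zero_apply]
    simp only [Matrix.toLinAlgEquiv'_apply, hM]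
    rw [← map_sum, ← LinearMap.sum_apply, hz, LinearMap.zero_apply, map_zero]
  have hfix : ∀ v : Fin a → k, (∀ x ∈ A, σ x v = v) → v = 0 := by
    intro v hv
    have h1 : ∑ x : A, σ x v = 0 := by
      simp only [hσ]
      rw [← Matrix.sum_mulVec]
      have : (∑ x : A, (M x).map ι) = 0 := by
        show ∑ x : A, ι.mapMatrix (M x) = 0
        rw [← map_sum, hsum, map_zero]
      rw [this, Matrix.zero_mulVec]
    rw [Finset.sum_congr rfl fun (x : A) _ => hv x x.2, Finset.sum_const, Finset.card_univ,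
      ← Nat.card_eq_fintype_card, ← Nat.cast_smul_eq_nsmul k] at h1
    refine (smul_eq_zero.1 h1).resolve_left fun h => ?_
    obtain ⟨n, hn⟩ := IsPGroup.iff_card.1 hAp
    rw [CharP.cast_eq_zero_iff k r, hn] at h
    exact hpr ((Nat.prime_dvd_prime_iff_eq hr hpp.out).1 (hr.dvd_of_dvd_pow h)).symm
  refine linear_bound (r := r) h53 hpr σ hσinj hsol hcore τ hτ hτs hτσ A
    (fun x hx y hy => hZc x hx.1 y hy.1) (fun x hx => hx.2) hA1 hfix hkK ?_
  rw [Module.finrank_fin_fun, ha]
  refine le_of_eq_of_le ?_ hV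
  rw [Module.natCard_eq_pow_finrank (K := ZMod r) (V := V), Nat.card_zmod]

end CfsgLib.FitIndex
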