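import Cfsg.Agent.FitIndex.Galois
import Cfsg.Agent.Solvable.Socle
import Mathlib.Algebra.Field.ZMod
import Mathlib.Algebra.Module.ZMod
import Mathlib.GroupTheory.Nilpotent
import Mathlib.GroupTheory.Frattini

/-!
The lower bound `p / (3 log p)` for the class number, `p` dividing the index of the Fitting subgroup.
-/

set_option autoImplicit false
set_option linter.style.haveILetI false
set_option linter.unusedSectionVars false

namespace CfsgLib.FitIndex

open CfsgLib.Solvable CfsgLib.SolvLinK

universe u

variable {G : Type u} [Group G] [Finite G]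

/-- Conjugation on a self-centralising abelian normal subgroup. -/
theorem faithful_bound (hsol : Group.IsSolvable G) {p : ℕ} [Fact p.Prime] (h53 : 53 ≤ p) {r : ℕ} [hrp : Fact r.Prime]
    (V : Subgroup G) [hVn : V.Normal] (hV0 : V ≠ ⊥) (hexp : ∀ v ∈ V, v ^ r = 1)
    (hcomm : ∀ v ∈ V, ∀ w ∈ V, v * w = w * v) (hC : Subgroup.centralizer (V : Set G) ≤ V)
    (hmin : ∀ K : Subgroup G, K.Normal → K ≤ V → K = ⊥ ∨ K = V) (hP : Cfsg.pCore p (G ⧸ V) ≠ ⊥) :
    (p : ℝ) ≤ 3 * Real.logb 2 p * Nat.card (ConjClasses G) := by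
  classical
  letI : CommGroup V := { (inferInstance : Group V) with mul_comm := fun v w => Subtype.ext (hcomm v v.2 w w.2) }
  haveI := hsol
  haveI : Group.IsSolvable (G ⧸ V) := Group.isSolvable_of_surjective (QuotientGroup.mk'_surjective V)
  let act : G ⧸ V →* MulAut V := QuotientGroup.lift V MulAut.conjNormal fun v hv =>
    MonoidHom.mem_ker.2 (MulEquiv.ext fun x => Subtype.ext (by
      rw [MulAut.conjNormal_apply, hcomm v hv x x.2, mul_inv_cancel_right]; rfl))
  have hact : ∀ (g : G) (x : V), (act (g : G ⧸ V) x : G) = g * x * g⁻¹ := fun g x => MulAut.conjNormal_apply g x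
  haveI : Module (ZMod r) (Additive V) := AddCommGroup.zmodModule fun x =>
    Additive.toMul.injective (Subtype.ext (by
      show ((Additive.toMul x ^ r : V) : G) = 1
      rw [Subgroup.coe_pow]; exact hexp _ (Additive.toMul x).2))
  let π : G ⧸ V →* Module.End (ZMod r) (Additive V) :=
    { toFun := fun h => (MonoidHom.toAdditive (act h).toMonoidHom).toZModLinearMap r
      map_one' := LinearMap.ext fun x => by
        show Additive.ofMul (act 1 (Additive.toMul x)) = x
        rw [map_one]; rfl
      map_mul' := fun h h' => LinearMap.ext fun x => by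
        show Additive.ofMul (act (h * h') (Additive.toMul x)) = Additive.ofMul (act h (act h' (Additive.toMul x)))
        rw [map_mul]; rfl }
  have hinj : Function.Injective π := by
    refine (injective_iff_map_eq_one π).2 fun h hh => ?_
    obtain ⟨g, rfl⟩ := QuotientGroup.mk'_surjective V h
    refine (QuotientGroup.eq_one_iff g).2 (hC fun x hx => ?_)
    have h1 : act (g : G ⧸ V) ⟨x, hx⟩ = ⟨x, hx⟩ :=
      congrArg Additive.toMul (LinearMap.congr_fun hh (Additive.ofMul (⟨x, hx⟩ : V)))
    have h2 := congrArg Subtype.val h1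
    rw [hact] at h2
    exact (mul_inv_eq_iff_eq_mul.1 h2).symm
  have hirr : IsIrr π := by
    refine ⟨fun h => hV0 (eq_bot_iff.2 fun x hx => ?_), fun U hU => ?_⟩
    · have : Additive.ofMul (⟨x, hx⟩ : V) ∈ (⊤ : Submodule (ZMod r) (Additive V)) := Submodule.mem_top
      rw [h, Submodule.mem_bot] at this
      exact Subgroup.mem_bot.2 (congrArg Subtype.val (congrArg Additive.toMul this))
    let F : Subgroup V :=
      { carrier := {x | Additive.ofMul x ∈ U}
        one_mem' := U.zero_mem
        mul_mem' := fun hx hy => U.add_mem hx hy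
        inv_mem' := fun hx => U.neg_mem hx }
    have hn : (F.map V.subtype).Normal := ⟨by
      rintro _ ⟨x, hx, rfl⟩ g
      exact ⟨act g x, hU (g : G ⧸ V) _ hx, hact g x⟩⟩
    rcases hmin _ hn (Subgroup.map_subtype_le F) with h | h
    · refine Or.inl (eq_bot_iff.2 fun x hx => (Submodule.mem_bot _).2 ?_)
      have : ((Additive.toMul x : V) : G) ∈ F.map V.subtype := ⟨_, hx, rfl⟩
      rw [h, Subgroup.mem_bot] at this
      exact Additive.toMul.injective (Subtype.ext this)
    · refine Or.inr (eq_top_iff.2 fun x _ => ?_)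
      obtain ⟨y, hy, hyx⟩ := h.ge (Additive.toMul x).2
      rw [show y = Additive.toMul x from Subtype.ext hyx] at hy
      exact hy
  haveI : Finite (Additive V) := Finite.of_equiv V Additive.ofMul
  have hk := classes_over_abelian V hcomm
  refine finite_field_bound π hinj hirr inferInstance h53 hP
    (Nat.card_le_card_of_surjective _ (ConjClasses.map_surjective (QuotientGroup.mk'_surjective V))) ?_
  have h1 : Nat.card (Additive V) = Nat.card V := Nat.card_congr Additive.toMul
  omega


theorem exists_min_normal {N : Subgroup G} (hN : N ≠ ⊥) (hs : Group.IsSolvable N) [hNn : N.Normal] :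
    ∃ V : Subgroup G, V.Normal ∧ V ≠ ⊥ ∧ V ≤ N ∧ IsMulCommutative V ∧
      (∀ K : Subgroup G, K.Normal → K ≤ V → K = ⊥ ∨ K = V) ∧ ∃ r : ℕ, r.Prime ∧ ∀ v ∈ V, v ^ r = 1 := by
  obtain ⟨V, hV, hV0, hVN, hVc, hmin, r, hr, hexp, -⟩ := exists_normal_elementary_le hN hs
  exact ⟨V, hV, hV0, hVN, hVc, hmin, r, hr, hexp⟩

/-- The minimal counterexample. -/
theorem reduced_case (hsol : Group.IsSolvable G) {p : ℕ} [hpp : Fact p.Prime] (h53 : 53 ≤ p)
    (hp : p ∣ (Cfsg.fittingSubgroup G).index)
    (hq : ∀ N : Subgroup G, ∀ _ : N.Normal, N ≠ ⊥ → ¬ p ∣ (Cfsg.fittingSubgroup (G ⧸ N)).index) :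
    (p : ℝ) ≤ 3 * Real.logb 2 p * Nat.card (ConjClasses G) := by
  classical
  haveI := hsol
  set F := Cfsg.fittingSubgroup G with hF
  haveI : Group.IsNilpotent F := isNilpotent_fittingSubgroup
  -- the Frattini subgroup
  have hΦ : frattini G = ⊥ := by
    by_contra h
    refine hq (frattini G) inferInstance h ?_
    rw [CfsgLib.Fitting.fittingSubgroup_quotient_frattini, Subgroup.index_map_eq _ (QuotientGroup.mk'_surjective _)]
    · exact hp
    · rw [QuotientGroup.ker_mk']
      exact le_fittingSubgroup inferInstance frattini_nilpotent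
  have hG : (⊤ : Subgroup G) ≠ ⊥ := fun h => by
    haveI : Subsingleton G := Subgroup.subsingleton_iff.1 (subsingleton_of_bot_eq_top h.symm)
    rw [show F = ⊤ from Subsingleton.elim _ _, Subgroup.index_top, Nat.dvd_one] at hp
    exact hpp.out.ne_one hp
  haveI : Group.IsSolvable (⊤ : Subgroup G) :=
    Group.isSolvable_of_isSolvable_injective (Subgroup.subtype_injective (⊤ : Subgroup G))
  obtain ⟨V, hVn, hV0, -, hVc, hmin, r, hr, hexp⟩ := exists_min_normal hG inferInstance
  haveI := hVn
  haveI := Fact.mk hr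
  -- the socle is `V`
  have huniq : ∀ N : Subgroup G, N.Normal → N ≠ ⊥ → V ≤ N := by
    intro N hN hN0
    haveI := hN
    refine inf_eq_left.1 ((hmin (V ⊓ N) inferInstance inf_le_left).resolve_left fun hbot => ?_)
    set F₁ := (Cfsg.fittingSubgroup (G ⧸ V)).comap (QuotientGroup.mk' V) with hF₁
    set F₂ := (Cfsg.fittingSubgroup (G ⧸ N)).comap (QuotientGroup.mk' N) with hF₂
    haveI : F₁.Normal := Subgroup.Normal.comap inferInstance _
    haveI : F₂.Normal := Subgroup.Normal.comap inferInstance _
    have e1 : F₁.index = (Cfsg.fittingSubgroup (G ⧸ V)).index :=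
      Subgroup.index_comap_of_surjective _ (QuotientGroup.mk'_surjective V)
    have e2 : F₂.index = (Cfsg.fittingSubgroup (G ⧸ N)).index :=
      Subgroup.index_comap_of_surjective _ (QuotientGroup.mk'_surjective N)
    haveI : Group.IsNilpotent (Cfsg.fittingSubgroup (G ⧸ V)) := isNilpotent_fittingSubgroup
    haveI : Group.IsNilpotent (Cfsg.fittingSubgroup (G ⧸ N)) := isNilpotent_fittingSubgroup
    let φ : (F₁ ⊓ F₂ : Subgroup G) →* Cfsg.fittingSubgroup (G ⧸ V) × Cfsg.fittingSubgroup (G ⧸ N) :=
      ((((QuotientGroup.mk' V).comp (F₁ ⊓ F₂ : Subgroup G).subtype)).codRestrict _ fun x => x.2.1).prod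
        ((((QuotientGroup.mk' N).comp (F₁ ⊓ F₂ : Subgroup G).subtype)).codRestrict _ fun x => x.2.2)
    have hφ : Function.Injective φ := by
      refine (injective_iff_map_eq_one φ).2 fun x hx => Subtype.ext ?_
      have h1 : (x : G) ∈ V := (QuotientGroup.eq_one_iff (x : G)).1 (congrArg Subtype.val (congrArg Prod.fst hx))
      have h2 : (x : G) ∈ N := (QuotientGroup.eq_one_iff (x : G)).1 (congrArg Subtype.val (congrArg Prod.snd hx))
      exact Subgroup.mem_bot.1 (hbot ▸ (⟨h1, h2⟩ : (x : G) ∈ V ⊓ N))
    have hnil : Group.IsNilpotent (F₁ ⊓ F₂ : Subgroup G) :=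
      Group.nilpotent_of_mulEquiv (MonoidHom.ofInjective hφ).symm
    have hle : F₁ ⊓ F₂ ≤ F := le_fittingSubgroup inferInstance hnil
    have hd := hp.trans (Subgroup.index_dvd_of_le hle)
    rw [← Subgroup.relIndex_mul_index (inf_le_left : F₁ ⊓ F₂ ≤ F₁), Subgroup.inf_relIndex_left] at hd
    rcases (Nat.Prime.dvd_mul hpp.out).1 hd with h | h
    · exact hq N hN hN0 (e2 ▸ h.trans (Subgroup.relIndex_dvd_index_of_normal F₂ F₁))
    · exact hq V hVn hV0 (e1 ▸ h)
  have hFV : F = V := by
    rw [hF, CfsgLib.Socle.fitting_eq_socle hΦ]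
    refine le_antisymm (sSup_le ?_) (le_sSup ⟨hVn, hV0, hVc, hmin⟩)
    rintro N ⟨hN, hN0, -, hNmin⟩
    exact ((hNmin V hVn (huniq N hN hN0)).resolve_left hV0).ge
  have hC : Subgroup.centralizer (V : Set G) ≤ V := by
    have h := CfsgLib.Fitting.centralizer_fittingSubgroup_le_of_solvable (G := G)
    rwa [← hF, hFV] at h
  -- the core
  have hP : Cfsg.pCore p (G ⧸ V) ≠ ⊥ := by
    intro h
    set X := Cfsg.fittingSubgroup (G ⧸ V)
    haveI : Group.IsNilpotent X := isNilpotent_fittingSubgroup
    refine hq V hVn hV0 ?_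
    have hnd : ¬ p ∣ Nat.card X := by
      intro hd
      let Q : Sylow p X := default
      haveI : (Q : Subgroup X).Normal := inferInstance
      haveI := Q.characteristic_of_normal inferInstance
      have hn : ((Q : Subgroup X).map X.subtype).Normal := ConjAct.normal_of_characteristic_of_normal
      have h1 := le_pCore p hn (Q.2.map X.subtype)
      rw [h, le_bot_iff, Subgroup.map_eq_bot_iff_of_injective _ X.subtype_injective] at h1
      exact Q.ne_bot_of_dvd_card hd h1
    have h2 : p ∣ Nat.card (G ⧸ V) := by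
      rw [← Subgroup.index, ← hFV]; exact hp
    rw [← X.card_mul_index] at h2
    exact ((Nat.Prime.dvd_mul hpp.out).1 h2).resolve_left hnd
  exact faithful_bound hsol h53 V hV0 hexp (fun v hv w hw =>
    congrArg Subtype.val (hVc.is_comm.comm (⟨v, hv⟩ : V) ⟨w, hw⟩)) hC hmin hP

/-- The lower bound. -/
theorem class_bound (p : ℕ) [Fact p.Prime] (h53 : 53 ≤ p) : ∀ (G : Type u) [Group G] [Finite G],
    Group.IsSolvable G → p ∣ (Cfsg.fittingSubgroup G).index →
      (p : ℝ) ≤ 3 * Real.logb 2 p * Nat.card (ConjClasses G) := by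
  intro G _ _ hs hd
  induction hn : Nat.card G using Nat.strong_induction_on generalizing G with
  | _ n ih =>
    subst hn
    by_cases hq : ∀ N : Subgroup G, ∀ _ : N.Normal, N ≠ ⊥ → ¬ p ∣ (Cfsg.fittingSubgroup (G ⧸ N)).index
    · exact reduced_case hs h53 hd hq
    push Not at hq
    obtain ⟨N, hN, hN0, hdN⟩ := hq
    haveI := hs
    refine (ih _ (card_quotient_lt hN0) (G ⧸ N)
      (Group.isSolvable_of_surjective (QuotientGroup.mk'_surjective N)) hdN rfl).trans
      (mul_le_mul_of_nonneg_left ?_ ?_)
    · exact_mod_cast Nat.card_le_card_of_surjective _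
        (ConjClasses.map_surjective (QuotientGroup.mk'_surjective N))
    · have := five_le_logb h53
      linarith

/-- Three classes at least. -/
theorem three_le_classes (hp : (Cfsg.fittingSubgroup G).index ≠ 1) : 3 ≤ Nat.card (ConjClasses G) := by
  by_contra h
  refine hp (Subgroup.index_eq_one.2 (eq_top_iff.2 ?_))
  refine le_fittingSubgroup inferInstance ?_
  classical
  haveI := Fintype.ofFinite G
  haveI := Fintype.ofFinite (ConjClasses G)
  have hle : Nat.card G ≤ 2 := by
    rw [Nat.card_eq_fintype_card (α := ConjClasses G)] at h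
    by_contra h3
    obtain ⟨g, hg⟩ : ∃ g : G, g ≠ 1 := by
      by_contra hc
      push Not at hc
      haveI : Subsingleton G := ⟨fun a b => (hc a).trans (hc b).symm⟩
      rw [Nat.card_of_subsingleton (1 : G)] at h3
      omega
    have hall : ∀ x : G, x ≠ 1 → ConjClasses.mk x = ConjClasses.mk g := by
      intro x hx
      by_contra hne
      have h1 : ∀ y : G, y ≠ 1 → ConjClasses.mk y ≠ ConjClasses.mk 1 := fun y hy e =>
        hy (isConj_one_left.1 (ConjClasses.mk_eq_mk_iff_isConj.1 e))
      have : ({ConjClasses.mk (1 : G), ConjClasses.mk g, ConjClasses.mk x} : Finset (ConjClasses G)).card = 3 :=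
        Finset.card_eq_three.2 ⟨_, _, _, (h1 g hg).symm, (h1 x hx).symm, fun e => hne e.symm, rfl⟩
      have h2 := Finset.card_le_univ
        ({ConjClasses.mk (1 : G), ConjClasses.mk g, ConjClasses.mk x} : Finset (ConjClasses G))
      omega
    have hset : (ConjClasses.mk g).carrier = {(1 : G)}ᶜ := by
      ext x
      rw [ConjClasses.mem_carrier_iff_mk_eq, Set.mem_compl_iff, Set.mem_singleton_iff]
      refine ⟨fun e hx => hg ?_, hall x⟩
      rw [hx] at e
      exact isConj_one_right.1 (ConjClasses.mk_eq_mk_iff_isConj.1 e)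
    have hd : Nat.card (ConjClasses.mk g).carrier ∣ Nat.card G := by
      rw [carrier_card]; exact Subgroup.index_dvd_card _
    rw [Nat.card_coe_set_eq, hset, Set.ncard_compl, Set.ncard_singleton] at hd
    have h4 := Nat.eq_one_of_dvd_coprimes (k := Nat.card G - 1) (Nat.coprime_self_sub_right (n := Nat.card G)
      (m := 1) (by omega) |>.2 (Nat.coprime_one_right _)) hd dvd_rfl
    omega
  letI : CommGroup G := by
    refine { (inferInstance : Group G) with mul_comm := ?_ }
    intro a b
    have : IsCyclic G := by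
      rcases (by have := Nat.card_pos (α := G); omega : Nat.card G = 1 ∨ Nat.card G = 2) with h1 | h1
      · haveI := (Nat.card_eq_one_iff_unique.1 h1).1
        infer_instance
      · haveI := Fact.mk Nat.prime_two
        exact isCyclic_of_prime_card h1
    exact (IsCyclic.commGroup (α := G)).mul_comm a b
  exact Group.isNilpotent_top.2 CommGroup.isNilpotent

end CfsgLib.FitIndex
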