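import Cfsg.Agent.SolvLinK.Main
import Cfsg.Agent.Solvable.Basics
import Mathlib.Algebra.CharP.Lemmas
import Mathlib.Algebra.CharP.Algebra
import Mathlib.LinearAlgebra.Quotient.Basic

/-!
The ratio of order and class number for linear groups in characteristic `r` without normal `r`-subgroups.
-/

set_option autoImplicit false
set_option linter.style.haveILetI false
set_option linter.unusedSectionVars false

namespace CfsgLib.FitIndex

open Module CfsgLib.SolvLinK

universe u v w

/-- A product of ratios. -/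
theorem rb_pi_prod {ι : Type v} [Fintype ι] {K : ι → Type u} [∀ i, Group (K i)] [∀ i, Finite (K i)]
    {c : ι → ℚ} (h : ∀ i, RB (K i) (c i)) : RB (∀ i, K i) (∏ i, c i) := by
  classical
  have e := commProb_pi K
  simp only [commProb_def'] at e
  have hP : (0 : ℚ) < Nat.card (∀ i, K i) := by exact_mod_cast Nat.card_pos
  have hcard : (Nat.card (∀ i, K i) : ℚ) = ∏ i, (Nat.card (K i) : ℚ) := by
    rw [Nat.card_pi, Nat.cast_prod]
  rw [Finset.prod_div_distrib, ← hcard, div_left_inj' hP.ne'] at e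
  rw [RB, hcard, e, ← Finset.prod_mul_distrib]
  exact Finset.prod_le_prod (fun i _ => Nat.cast_nonneg _) fun i _ => h i

variable {k : Type w} [Field k] [IsAlgClosed k]

/-- Modulo a unipotent normal subgroup. -/
theorem exists_unipotent_rb : ∀ (d : ℕ) (H : Type u) [Group H] [Finite H] (U : Type v) [AddCommGroup U]
    [Module k U] [FiniteDimensional k U] (σ : H →* Module.End k U), Group.IsSolvable H → finrank k U = d →
    ∃ L : Subgroup H, ∃ _ : L.Normal, (∀ x ∈ L, IsNilpotent (σ x - 1)) ∧ RB (H ⧸ L) (gB d) := by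
  intro d
  induction d using Nat.strong_induction_on with
  | _ d ih =>
  intro H _ _ U _ _ _ σ hsol hd
  haveI := hsol
  classical
  by_cases hirr : IsIrr σ
  · refine ⟨σ.toHomUnits.ker, inferInstance, fun x hx => ⟨1, ?_⟩, ?_⟩
    · rw [pow_one, show σ x = 1 from congrArg Units.val hx, sub_self]
    · have hcr : IsCR σ := fun U' hU' => (hirr.2 U' hU').elim
        (fun h => ⟨⊤, fun _ _ _ => Submodule.mem_top, h ▸ isCompl_bot_top⟩)
        fun h => ⟨⊥, fun g x hx => by rw [Submodule.mem_bot] at hx ⊢; rw [hx, map_zero], h ▸ isCompl_top_bot⟩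
      exact hd ▸ rb_image (cr_bound (k := k) (finrank k U + 1)) hsol σ hcr (Nat.lt_succ_self _)
  rcases Nat.eq_zero_or_pos d with rfl | hd1
  · haveI : Subsingleton U := Module.finrank_zero_iff.1 hd
    haveI : Subsingleton (H ⧸ (⊤ : Subgroup H)) := QuotientGroup.subsingleton_quotient_top
    exact ⟨⊤, inferInstance, fun x _ => ⟨1, LinearMap.ext fun u => Subsingleton.elim _ _⟩,
      (RB.of_comm fun a b => Subsingleton.elim _ _).mono (one_le_gB 0)⟩
  have htop : (⊤ : Submodule k U) ≠ ⊥ := fun h => by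
    have := finrank_top k U
    rw [h, finrank_bot] at this
    omega
  obtain ⟨U₁, hU₁, h1, h2⟩ : ∃ U₁, Invt σ U₁ ∧ U₁ ≠ ⊥ ∧ U₁ ≠ ⊤ := by
    by_contra hc
    push Not at hc
    exact hirr ⟨htop, fun U' hU' => or_iff_not_imp_left.2 (hc U' hU')⟩
  let σ₂ : H →* Module.End k (U ⧸ U₁) :=
    { toFun := fun g => U₁.mapQ U₁ (σ g) fun x hx => hU₁ g x hx
      map_one' := Submodule.linearMap_qext _ (LinearMap.ext fun x => by simp)
      map_mul' := fun g g' => Submodule.linearMap_qext _ (LinearMap.ext fun x => by simp) }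
  have ha : finrank k U₁ < d := hd ▸ Submodule.finrank_lt h2
  have hsum := Submodule.finrank_quotient_add_finrank U₁
  rw [hd] at hsum
  have hu1 : 1 ≤ finrank k U₁ := Submodule.one_le_finrank_iff.2 h1
  obtain ⟨L₁, hL₁n, hL₁, hF₁⟩ := ih _ ha H U₁ (restrictRep σ U₁ hU₁) hsol rfl
  obtain ⟨L₂, hL₂n, hL₂, hF₂⟩ := ih _ (show finrank k (U ⧸ U₁) < d by omega) H (U ⧸ U₁) σ₂ hsol rfl
  refine ⟨L₁ ⊓ L₂, inferInstance, fun x hx => ?_, ?_⟩
  · obtain ⟨a, ha⟩ := hL₁ x hx.1
    obtain ⟨b, hb⟩ := hL₂ x hx.2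
    refine ⟨a + b, LinearMap.ext fun u => ?_⟩
    rw [pow_add, Module.End.mul_apply, LinearMap.zero_apply]
    have hbk : ∀ (m : ℕ) (u : U), ((σ₂ x - 1) ^ m) (Submodule.Quotient.mk u) =
        Submodule.Quotient.mk (((σ x - 1) ^ m) u) := fun m => by
      induction m with
      | zero => intro u; rfl
      | succ m ih => intro u; rw [pow_succ', pow_succ', Module.End.mul_apply, Module.End.mul_apply, ih]; rfl
    have hmem : ((σ x - 1) ^ b) u ∈ U₁ := by
      rw [← Submodule.Quotient.mk_eq_zero, ← hbk, hb]; rfl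
    have hak : ∀ (m : ℕ) (y : U₁), (((restrictRep σ U₁ hU₁ x - 1) ^ m) y : U) = ((σ x - 1) ^ m) (y : U) := fun m => by
      induction m with
      | zero => intro y; rfl
      | succ m ih => intro y; rw [pow_succ', pow_succ', Module.End.mul_apply, Module.End.mul_apply, ← ih]; rfl
    rw [← hak a ⟨_, hmem⟩, ha]
    rfl
  · have hu2 : 1 ≤ finrank k (U ⧸ U₁) := by omega
    refine ((hF₁.prod hF₂).of_injective
      ((QuotientGroup.map (L₁ ⊓ L₂) L₁ (MonoidHom.id H) fun x hx => hx.1).prod
        (QuotientGroup.map (L₁ ⊓ L₂) L₂ (MonoidHom.id H) fun x hx => hx.2)) ?_).mono ?_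
    · refine (injective_iff_map_eq_one _).2 fun y hy => ?_
      obtain ⟨x, rfl⟩ := QuotientGroup.mk'_surjective _ y
      exact (QuotientGroup.eq_one_iff x).2 ⟨(QuotientGroup.eq_one_iff x).1 (congrArg Prod.fst hy),
        (QuotientGroup.eq_one_iff x).1 (congrArg Prod.snd hy)⟩
    · refine (gB_mul hu1 hu2).trans (le_of_eq ?_)
      congr 1
      omega

/-- A group acting faithfully on a family of invariant subspaces, without normal `r`-subgroups. -/
theorem rb_of_family {r : ℕ} [Fact r.Prime] [CharP k r] {H : Type u} [Group H] [Finite H] {W : Type v}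
    [AddCommGroup W] [Module k W] [FiniteDimensional k W] (σ : H →* Module.End k W) (hsol : Group.IsSolvable H)
    (hcore : Cfsg.pCore r H = ⊥) {ι : Type*} [Fintype ι] (U : ι → Submodule k W) (hU : ∀ i, Invt σ (U i))
    (hf : ∀ x, (∀ i, ∀ v ∈ U i, σ x v = v) → x = 1) : RB H (∏ i, gB (finrank k (U i))) := by
  classical
  choose L hLn hLu hLr using fun i => exists_unipotent_rb _ H (U i) (restrictRep σ (U i) (hU i)) hsol rfl
  haveI : ∀ i, (L i).Normal := hLn
  let φ : H →* ∀ i, H ⧸ L i := MonoidHom.pi fun i => QuotientGroup.mk' (L i)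
  have hker : ∀ x, x ∈ φ.ker ↔ ∀ i, x ∈ L i := fun x => by
    rw [MonoidHom.mem_ker, funext_iff]
    exact forall_congr' fun i => QuotientGroup.eq_one_iff x
  have hp : IsPGroup r φ.ker := fun x => by
    have hx := (hker x).1 x.2
    choose m hm using fun i => hLu i x (hx i)
    refine ⟨∑ i, m i, Subtype.ext (hf _ fun i v hv => ?_)⟩
    rw [Subgroup.coe_pow]
    rcases subsingleton_or_nontrivial (U i) with hS | hS
    · have : v = 0 := congrArg Subtype.val (Subsingleton.elim (⟨v, hv⟩ : U i) 0)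
      rw [this, map_zero]
    haveI : CharP (Module.End k (U i)) r :=
      charP_of_injective_algebraMap (algebraMap k (Module.End k (U i))).injective r
    have h1 : (restrictRep σ (U i) (hU i) (x : H) - 1) ^ r ^ (∑ j, m j) = 0 :=
      pow_eq_zero_of_le (((Finset.single_le_sum (fun j _ => Nat.zero_le (m j)) (Finset.mem_univ i))).trans
        (Nat.lt_pow_self (Fact.out : r.Prime).one_lt).le) (hm i)
    rw [sub_pow_char_pow_of_commute _ _ (Commute.one_right _), one_pow, sub_eq_zero, ← map_pow] at h1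
    exact congrArg Subtype.val (LinearMap.congr_fun h1 ⟨v, hv⟩)
  have hinj : Function.Injective φ :=
    (MonoidHom.ker_eq_bot_iff φ).1 (eq_bot_iff.2 (hcore ▸ CfsgLib.Solvable.le_pCore r inferInstance hp))
  exact (rb_pi_prod hLr).of_injective φ hinj

end CfsgLib.FitIndex
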