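import Cfsg.Agent.FitIndex.Arith
import Cfsg.Agent.FitIndex.Unipotent
import Cfsg.Agent.FitIndex.Counting
import Cfsg.Agent.FitMod.Averaging
import Cfsg.Agent.SolvLinK.Isometry
import Mathlib.RingTheory.RootsOfUnity.Basic
import Mathlib.GroupTheory.GroupAction.ConjAct
import Mathlib.LinearAlgebra.Dimension.Constructions

/-!
A solvable linear group over a finite field with a normal elementary abelian `p`-subgroup.
-/

set_option autoImplicit false
set_option linter.style.haveILetI false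
set_option linter.unusedSectionVars false

namespace CfsgLib.FitIndex

open Module CfsgLib.SolvLinK

universe u v w

variable {k : Type w} [Field k] [IsAlgClosed k] {H : Type u} [Group H] [Finite H] {W : Type v}
  [AddCommGroup W] [Module k W] [FiniteDimensional k W]

/-- The values of a character, extended by zero. -/
noncomputable def extVal (A : Subgroup H) (lam : A →* kˣ) (g : H) : k :=
  open Classical in if h : g ∈ A then (lam ⟨g, h⟩ : k) else 0

/-- A weight space. -/
noncomputable def wS (σ : H →* Module.End k W) (A : Subgroup H) (lam : A →* kˣ) : Submodule k W :=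
  eigS σ A (extVal A lam)

theorem mem_wS {σ : H →* Module.End k W} {A : Subgroup H} {lam : A →* kˣ} {v : W} :
    v ∈ wS σ A lam ↔ ∀ a : A, σ a v = (lam a : k) • v := by
  rw [wS, mem_eigS]
  refine ⟨fun h a => ?_, fun h a ha => ?_⟩
  · rw [h a a.2, extVal, dif_pos a.2]
  · rw [extVal, dif_pos ha]; exact h ⟨a, ha⟩

theorem iSup_wS (σ : H →* Module.End k W) (A : Subgroup H) (hAc : ∀ a ∈ A, ∀ b ∈ A, a * b = b * a)
    (hA : (Nat.card A : k) ≠ 0) : ⨆ lam : A →* kˣ, wS σ A lam = ⊤ := by
  set S := ⨆ lam : A →* kˣ, wS σ A lam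
  have hS : Invt (σ.comp A.subtype) S := by
    intro a
    suffices S ≤ S.comap (σ (a : H)) from fun v hv => this hv
    refine iSup_le fun lam v hv => ?_
    rw [Submodule.mem_comap, mem_wS.1 hv a]
    exact S.smul_mem _ (Submodule.mem_iSup_of_mem lam hv)
  obtain ⟨U, hU, hc⟩ := CfsgLib.FitMod.isCR_of_card_ne_zero (σ.comp A.subtype) hA S hS
  suffices hbot : U = ⊥ by
    have htop := hc.sup_eq_top
    rwa [hbot, sup_bot_eq] at htop
  by_contra hU0
  haveI : Nontrivial U := Submodule.nontrivial_iff_ne_bot.2 hU0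
  obtain ⟨v, hv0, hv⟩ := exists_common_eigvec (π := restrictRep (σ.comp A.subtype) U hU) top_ne_bot
    fun a b => by
      rw [← map_mul, ← map_mul]
      congr 1
      exact Subtype.ext (hAc a a.2 b b.2)
  obtain ⟨χ, hχ⟩ := exists_eigHom _ hv0 hv
  have hvS : (v : W) ∈ S := Submodule.mem_iSup_of_mem χ
    (mem_wS.2 fun a => congrArg Subtype.val (hχ a))
  exact hv0 (Subtype.ext ((Submodule.mem_bot k).1 (hc.inf_eq_bot ▸ ⟨hvS, v.2⟩)))

/-- The linear bound. -/
theorem linear_bound {r : ℕ} [hrp : Fact r.Prime] [CharP k r] {p : ℕ} [hpp : Fact p.Prime] (h53 : 53 ≤ p)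
    (hpr : p ≠ r) (σ : H →* Module.End k W) (hinj : Function.Injective σ) (hsol : Group.IsSolvable H)
    (hcore : Cfsg.pCore r H = ⊥) (τ : W →+ W) (hτ : Function.Bijective τ)
    (hτs : ∀ (c : k) (v : W), τ (c • v) = c ^ r • τ v) (hτσ : ∀ g v, σ g (τ v) = τ (σ g v))
    (A : Subgroup H) [hAn : A.Normal] (hAc : ∀ a ∈ A, ∀ b ∈ A, a * b = b * a) (hAp : ∀ a ∈ A, a ^ p = 1)
    (hA1 : A ≠ ⊥) (hfix : ∀ v : W, (∀ a ∈ A, σ a v = v) → v = 0) {K : ℕ}
    (hkK : Nat.card (ConjClasses H) ≤ K) (hV : r ^ finrank k W ≤ Nat.card H * K + 1) :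
    (p : ℝ) ≤ 3 * Real.logb 2 p * K := by
  classical
  haveI := hsol
  have hp := hpp.out
  have hr := hrp.out
  -- the rank
  have hApg : IsPGroup p A := fun a => ⟨1, Subtype.ext (by rw [pow_one, Subgroup.coe_pow]; exact hAp a a.2)⟩
  obtain ⟨t, ht⟩ := IsPGroup.iff_card.1 hApg
  have ht1 : 1 ≤ t := by
    by_contra h
    exact hA1 (Subgroup.eq_bot_of_card_eq _ (by rw [ht, show t = 0 by omega, pow_zero]))
  -- the exponent
  set e := orderOf (r : ZMod p) with hedef
  have hr0 : (r : ZMod p) ≠ 0 := fun h => hpr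
    ((Nat.prime_dvd_prime_iff_eq hp hr).1 ((ZMod.natCast_eq_zero_iff r p).1 h))
  have hre : (r : ZMod p) ^ e = 1 := pow_orderOf_eq_one _
  have he1 : 1 ≤ e := orderOf_pos_iff.2 (isOfFinOrder_iff_pow_eq_one.2
    ⟨p - 1, by have := hp.two_le; omega, ZMod.pow_card_sub_one_eq_one hr0⟩)
  have hd : p ∣ r ^ e - 1 := by
    rw [← ZMod.natCast_eq_zero_iff, Nat.cast_sub (Nat.one_le_pow _ _ hr.pos), Nat.cast_pow, hre, Nat.cast_one,
      sub_self]
  obtain ⟨hpq, h107, h2e⟩ := field_size hp hr he1 h53 hd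
  have hmod : ∀ (lam : A →* kˣ) (i j : ℕ), i % e = j % e → lam ^ r ^ i = lam ^ r ^ j := by
    intro lam i j hij
    refine MonoidHom.ext fun a => ?_
    rw [MonoidHom.pow_apply, MonoidHom.pow_apply]
    have h1 : lam a ^ p = 1 := by
      rw [← map_pow, show a ^ p = 1 from Subtype.ext (hAp a a.2), map_one]
    refine pow_eq_pow_of_modEq ?_ h1
    rw [← ZMod.natCast_eq_natCast_iff, Nat.cast_pow, Nat.cast_pow, ← pow_mod_orderOf (r : ZMod p) i,
      ← pow_mod_orderOf (r : ZMod p) j, ← hedef, hij]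
  have hpw0 : ∀ lam : A →* kˣ, lam ^ r ^ 0 = lam := fun lam => MonoidHom.ext fun a => by
    rw [MonoidHom.pow_apply, pow_zero, pow_one]
  have hpwm : ∀ (lam : A →* kˣ) (i j : ℕ), lam ^ (i * j) = (lam ^ i) ^ j := fun lam i j =>
    MonoidHom.ext fun a => by
      rw [MonoidHom.pow_apply, MonoidHom.pow_apply, MonoidHom.pow_apply, pow_mul]
  -- weights
  haveI : Finite (A →* kˣ) := finite_monoidHom_units (k := k) A
  have hAk : (Nat.card A : k) ≠ 0 := fun h => by
    rw [CharP.cast_eq_zero_iff k r, ht] at h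
    exact hpr ((Nat.prime_dvd_prime_iff_eq hr hp).1 (hr.dvd_of_dvd_pow h)).symm
  have htop := iSup_wS σ A hAc hAk
  let Λ := {lam : A →* kˣ // wS σ A lam ≠ ⊥}
  haveI : Finite Λ := inferInstance
  have hne : ∀ lam : Λ, lam.1 ≠ 1 := fun lam h => lam.2 (eq_bot_iff.2 fun v hv => (Submodule.mem_bot k).2
    (hfix v fun a ha => by
      rw [mem_wS.1 hv ⟨a, ha⟩, h, MonoidHom.one_apply, Units.val_one, one_smul]))
  have hsep : ∀ a : A, (∀ lam : Λ, lam.1 a = 1) → a = 1 := by
    intro a ha
    refine Subtype.ext (hinj (LinearMap.ext fun v => ?_))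
    rw [Subgroup.coe_one, map_one, Module.End.one_apply]
    have hv : v ∈ ⨆ lam : A →* kˣ, wS σ A lam := htop ▸ Submodule.mem_top
    induction hv using Submodule.iSup_induction' with
    | mem lam v hv =>
      by_cases h : wS σ A lam = ⊥
      · rw [(Submodule.eq_bot_iff _).1 h v hv, map_zero]
      · rw [mem_wS.1 hv a, ha ⟨lam, h⟩, Units.val_one, one_smul]
    | zero => rw [map_zero]
    | add x y _ _ hx hy => rw [map_add, hx, hy]
  -- the semilinear map
  have hfr1 : ∀ (lam : A →* kˣ) v, v ∈ wS σ A lam → τ v ∈ wS σ A (lam ^ r) := fun lam v hv =>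
    mem_wS.2 fun a => by rw [hτσ, mem_wS.1 hv a, hτs, MonoidHom.pow_apply, Units.val_pow_eq_pow_val]
  have hfr2 : ∀ (lam : A →* kˣ) v, τ v ∈ wS σ A (lam ^ r) → v ∈ wS σ A lam := fun lam v hv =>
    mem_wS.2 fun a => hτ.1 (by
      rw [← hτσ, mem_wS.1 hv a, hτs, MonoidHom.pow_apply, Units.val_pow_eq_pow_val])
  have hfri : ∀ (i : ℕ) (lam : A →* kˣ), ∀ u ∈ wS σ A lam, τ^[i] u ∈ wS σ A (lam ^ r ^ i) := by
    intro i
    induction i with
    | zero => intro lam u hu; rw [hpw0, Function.iterate_zero_apply]; exact hu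
    | succ i ih =>
      intro lam u hu
      rw [Function.iterate_succ_apply', pow_succ r i, hpwm]
      exact hfr1 _ _ (ih lam u hu)
  have hfrs : ∀ (i : ℕ) (lam : A →* kˣ), ∀ v ∈ wS σ A (lam ^ r ^ i), ∃ u ∈ wS σ A lam, τ^[i] u = v := by
    intro i
    induction i with
    | zero => intro lam v hv; exact ⟨v, by rwa [hpw0] at hv, rfl⟩
    | succ i ih =>
      intro lam v hv
      obtain ⟨v', rfl⟩ := hτ.2 v
      rw [pow_succ r i, hpwm] at hv
      obtain ⟨u, hu, rfl⟩ := ih lam v' (hfr2 _ _ hv)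
      exact ⟨u, hu, Function.iterate_succ_apply' τ i u⟩
  have hcomm : ∀ (i : ℕ) g v, σ g (τ^[i] v) = τ^[i] (σ g v) := by
    intro i
    induction i with
    | zero => intro g v; rfl
    | succ i ih => intro g v; rw [Function.iterate_succ_apply', Function.iterate_succ_apply', hτσ, ih]
  -- the orbits
  let Rel : Λ → Λ → Prop := fun x y => ∃ i, x.1 ^ r ^ i = y.1
  let st : Setoid Λ := ⟨Rel, fun x => ⟨0, hpw0 _⟩, fun {x y} ⟨i, hi⟩ => ⟨(e - 1) * i, by
      rw [← hi, ← hpwm, ← pow_add, hmod x.1 (i + (e - 1) * i) 0 (by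
        obtain ⟨e', he'⟩ : ∃ e', e = e' + 1 := ⟨e - 1, by omega⟩
        rw [he', Nat.add_sub_cancel, show i + e' * i = (e' + 1) * i by ring, Nat.mul_mod_right, Nat.zero_mod])]
      exact hpw0 _⟩,
    fun {x y z} ⟨i, hi⟩ ⟨j, hj⟩ => ⟨i + j, by rw [pow_add, hpwm, hi, hj]⟩⟩
  let O := Quotient st
  haveI : Finite O := Quotient.finite st
  haveI := Fintype.ofFinite O
  let rep : O → (A →* kˣ) := fun o => (Quotient.out o).1
  have hrel : ∀ x : Λ, ∃ i, rep ⟦x⟧ ^ r ^ i = x.1 := fun x => Quotient.exact (s := st) (Quotient.out_eq (⟦x⟧ : O))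
  have hrep : ∀ lam : A →* kˣ, wS σ A lam ≠ ⊥ → ∃ o i, rep o ^ r ^ i = lam := fun lam h =>
    ⟨_, hrel ⟨lam, h⟩⟩
  have horb : ∀ o o' i j, rep o ^ r ^ i = rep o' ^ r ^ j → o = o' := by
    intro o o' i j h
    have hne' : wS σ A (rep o ^ r ^ i) ≠ ⊥ := by
      obtain ⟨v, hv, hv0⟩ := (Submodule.ne_bot_iff _).1 (Quotient.out o).2
      refine (Submodule.ne_bot_iff _).2 ⟨τ^[i] v, hfri i _ v hv, fun h0 => hv0 (hτ.1.iterate i ?_)⟩
      rw [h0]
      exact (Function.iterate_fixed (map_zero τ) i).symm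
    let x : Λ := ⟨_, hne'⟩
    rw [← Quotient.out_eq o, ← Quotient.out_eq o']
    have h1 : (⟦Quotient.out o⟧ : O) = ⟦x⟧ := Quotient.sound ⟨i, rfl⟩
    have h2 : (⟦Quotient.out o'⟧ : O) = ⟦x⟧ := Quotient.sound ⟨j, h.symm⟩
    rw [h1, h2]
  have hfree : ∀ o i j, i < e → j < e → rep o ^ r ^ i = rep o ^ r ^ j → i = j := by
    intro o i j hi hj h
    obtain ⟨a, ha⟩ : ∃ a, rep o a ≠ 1 := by
      by_contra hc
      push Not at hc
      exact hne (Quotient.out o) (MonoidHom.ext hc)
    have hord : orderOf (rep o a) = p := orderOf_eq_prime (by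
      rw [← map_pow, show a ^ p = 1 from Subtype.ext (hAp a a.2), map_one]) ha
    replace h := DFunLike.congr_fun h a
    rw [MonoidHom.pow_apply, MonoidHom.pow_apply, pow_eq_pow_iff_modEq, hord, ← ZMod.natCast_eq_natCast_iff,
      Nat.cast_pow, Nat.cast_pow] at h
    exact pow_injOn_Iio_orderOf (G := ZMod p) hi hj h
  have hsep' : ∀ a : A, (∀ o, rep o a = 1) → a = 1 := fun a ha => hsep a fun lam => by
    obtain ⟨i, hi⟩ := hrel lam
    rw [← hi, MonoidHom.pow_apply, ha, one_pow]
  obtain ⟨B, hBt, hB⟩ := exists_separating (p := p) rep hsep' t ⊤ (by rw [Subgroup.card_top, ht])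
  have htB : t ≤ B.card := by
    let φ : A → (B → rootsOfUnity p k) := fun a o => ⟨rep o a, (mem_rootsOfUnity p _).2 (by
      rw [← map_pow, show a ^ p = 1 from Subtype.ext (hAp a a.2), map_one])⟩
    haveI : NeZero p := ⟨hp.ne_zero⟩
    have hφ : Function.Injective φ := fun a b hab => by
      refine mul_inv_eq_one.1 (hB _ (Subgroup.mem_top _) fun o ho => ?_)
      rw [map_mul, map_inv, mul_inv_eq_one]
      exact congrArg Subtype.val (congrFun hab ⟨o, ho⟩)
    have h1 := Nat.card_le_card_of_injective φ hφ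
    rw [ht, Nat.card_fun, Nat.card_eq_fintype_card (α := B), Fintype.card_coe] at h1
    exact (Nat.pow_le_pow_iff_right hp.one_lt).1 (h1.trans (Nat.pow_le_pow_left (card_rootsOfUnity k p) _))
  set m := Nat.card O with hm
  have htm : t ≤ m := htB.trans (by rw [hm, Nat.card_eq_fintype_card]; exact Finset.card_le_univ B)
  -- the action on the orbits
  let cj : H → A →* A := fun g => (MulAut.conjNormal g⁻¹ : MulAut A).toMonoidHom
  have hcj : ∀ g (a : A), (cj g a : H) = g⁻¹ * a * g := fun g a => by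
    show ((MulAut.conjNormal g⁻¹ a : A) : H) = _
    rw [MulAut.conjNormal_apply, inv_inv]
  have hmove : ∀ g (lam : A →* kˣ) v, v ∈ wS σ A lam → σ g v ∈ wS σ A (lam.comp (cj g)) := by
    intro g lam v hv
    refine mem_wS.2 fun a => ?_
    rw [rep_conj_apply, ← hcj, mem_wS.1 hv (cj g a), map_smul]
    rfl
  let mv : H → Λ → Λ := fun g x => ⟨x.1.comp (cj g), by
    obtain ⟨v, hv, hv0⟩ := (Submodule.ne_bot_iff _).1 x.2
    refine (Submodule.ne_bot_iff _).2 ⟨σ g v, hmove g _ v hv, fun h => hv0 ?_⟩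
    exact rep_injective σ g (h.trans (map_zero _).symm)⟩
  have hmv1 : ∀ x, mv 1 x = x := fun x => Subtype.ext (MonoidHom.ext fun a => by
    show x.1 (cj 1 a) = x.1 a
    congr 1
    exact Subtype.ext (by rw [hcj]; simp))
  have hmv2 : ∀ g g' x, mv (g * g') x = mv g (mv g' x) := fun g g' x => Subtype.ext (MonoidHom.ext fun a => by
    show x.1 (cj (g * g') a) = x.1 (cj g' (cj g a))
    congr 1
    exact Subtype.ext (by rw [hcj, hcj, hcj]; group))
  let mvO : H → O → O := fun g => Quotient.map (mv g) fun x y ⟨i, hi⟩ => ⟨i, by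
    show x.1.comp (cj g) ^ r ^ i = y.1.comp (cj g)
    rw [← hi]
    rfl⟩
  letI : MulAction H O :=
    { smul := mvO
      one_smul := fun o => Quotient.inductionOn o fun x => congrArg (Quotient.mk st) (hmv1 x)
      mul_smul := fun g g' o => Quotient.inductionOn o fun x => congrArg (Quotient.mk st) (hmv2 g g' x) }
  let ψ := MulAction.toPermHom H O
  set T := Nat.card ψ.range with hT
  have hT3 : T ^ 3 ≤ 24 ^ (m - 1) := (perm_bound m O rfl ψ.range
    (Group.isSolvable_of_surjective ψ.rangeRestrict_surjective)).1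
  set C := Subgroup.centralizer (A : Set H) with hCdef
  have hfixed : ∀ g ∈ ψ.ker, ∀ o, ∃ i : Fin e, (rep o).comp (cj g) = rep o ^ r ^ (i : ℕ) := by
    intro g hg o
    have h1 : g • o = o := Equiv.Perm.ext_iff.1 (MonoidHom.mem_ker.1 hg) o
    conv_lhs at h1 => rw [← Quotient.out_eq o]
    obtain ⟨i, hi⟩ := hrel (mv g (Quotient.out o))
    rw [show (⟦mv g (Quotient.out o)⟧ : O) = o from h1] at hi
    refine ⟨⟨i % e, Nat.mod_lt _ he1⟩, ?_⟩
    show (rep o).comp (cj g) = rep o ^ r ^ (i % e)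
    rw [hmod (rep o) (i % e) i (Nat.mod_mod i e), hi]
  choose idx hidx using hfixed
  have hker : Nat.card ψ.ker ≤ e ^ t * Nat.card C := by
    haveI := Fintype.ofFinite ψ.ker
    let F : ψ.ker → (B → Fin e) := fun g o => idx g g.2 o
    have hfib : ∀ y ∈ (Finset.univ : Finset (B → Fin e)),
        ((Finset.univ : Finset ψ.ker).filter fun g => F g = y).card ≤ Nat.card C := by
      intro y _
      rcases ((Finset.univ : Finset ψ.ker).filter fun g => F g = y).eq_empty_or_nonempty with h | ⟨g₀, hg₀⟩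
      · rw [h, Finset.card_empty]; exact Nat.zero_le _
      haveI := Fintype.ofFinite C
      have hmem : ∀ g ∈ ((Finset.univ : Finset ψ.ker).filter fun g => F g = y),
          (g₀ : H)⁻¹ * (g : H) ∈ C := by
        intro g hg a ha
        have hsame : ∀ b : A, cj g b = cj g₀ b := fun b => by
          refine mul_inv_eq_one.1 (hB _ (Subgroup.mem_top _) fun o ho => ?_)
          rw [map_mul, map_inv, mul_inv_eq_one]
          have e1 : idx g g.2 o = idx g₀ g₀.2 o := (congrFun (Finset.mem_filter.1 hg).2 ⟨o, ho⟩).trans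
            (congrFun (Finset.mem_filter.1 hg₀).2 ⟨o, ho⟩).symm
          have e2 : (rep o).comp (cj g) = (rep o).comp (cj g₀) := by rw [hidx g g.2 o, hidx g₀ g₀.2 o, e1]
          exact DFunLike.congr_fun e2 b
        have h4 : (g₀ : H) * a * (g₀ : H)⁻¹ ∈ A := hAn.conj_mem a ha _
        have h5 := congrArg Subtype.val (hsame ⟨_, h4⟩)
        rw [hcj, hcj] at h5
        calc a * ((g₀ : H)⁻¹ * g) = (g₀ : H)⁻¹ * g * ((g : H)⁻¹ * ((g₀ : H) * a * (g₀ : H)⁻¹) * g) := by group
          _ = _ := by rw [h5]; group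
      rw [Nat.card_eq_fintype_card, ← Finset.card_univ]
      refine Finset.card_le_card_of_injOn (fun g => if h : (g₀ : H)⁻¹ * (g : H) ∈ C then ⟨_, h⟩ else 1)
        (fun g _ => Finset.mem_univ _) fun g hg g' hg' h => ?_
      simp only [dif_pos (hmem g hg), dif_pos (hmem g' hg'), Subtype.mk.injEq, mul_left_cancel_iff] at h
      exact Subtype.ext h
    have h := Finset.card_le_mul_card_image_of_maps_to (f := F) (s := Finset.univ) (t := Finset.univ)
      (fun g _ => Finset.mem_univ _) _ hfib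
    rw [Finset.card_univ, Finset.card_univ, ← Nat.card_eq_fintype_card, Fintype.card_fun, Fintype.card_fin,
      Fintype.card_coe, mul_comm] at h
    exact h.trans (Nat.mul_le_mul_right _ (Nat.pow_le_pow_right he1 hBt))
  have hj : C.index ≤ e ^ t * T := by
    refine Nat.le_of_mul_le_mul_left ?_ (Nat.card_pos (α := C))
    rw [C.card_mul_index, ← ψ.ker.card_mul_index, Subgroup.index_ker, ← hT]
    calc Nat.card ψ.ker * T ≤ e ^ t * Nat.card C * T := Nat.mul_le_mul_right _ hker
      _ = _ := by ring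
  -- orbits on the subgroup
  have hC : ∀ c ∈ C, ∀ a ∈ A, c * a = a * c := fun c hc a ha => (hc a ha).symm
  have hone : p ^ t ≤ K * (e ^ t * T) + 1 := by
    rw [← ht]
    exact (card_le_classes A C hC).trans (Nat.add_le_add_right (Nat.mul_le_mul hkK hj) 1)
  -- the centraliser
  have hinvC : ∀ o, Invt (σ.comp C.subtype) (wS σ A (rep o)) := fun o c v hv => mem_wS.2 fun a => by
    show σ a (σ c v) = _ • σ c v
    rw [← Module.End.mul_apply, ← map_mul, ← hC c c.2 a a.2, map_mul, Module.End.mul_apply, mem_wS.1 hv a,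
      map_smul]
  have hfC : ∀ x : C, (∀ o, ∀ v ∈ wS σ A (rep o), σ x v = v) → x = 1 := by
    intro x hx
    refine Subtype.ext (hinj (LinearMap.ext fun v => ?_))
    rw [Subgroup.coe_one, map_one, Module.End.one_apply]
    have hv : v ∈ ⨆ lam : A →* kˣ, wS σ A lam := htop ▸ Submodule.mem_top
    induction hv using Submodule.iSup_induction' with
    | mem lam v hv =>
      by_cases h : wS σ A lam = ⊥
      · rw [(Submodule.eq_bot_iff _).1 h v hv, map_zero]
      · obtain ⟨o, i, rfl⟩ := hrep lam h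
        obtain ⟨u, hu, rfl⟩ := hfrs i _ v hv
        rw [hcomm, hx o u hu]
    | zero => rw [map_zero]
    | add x y _ _ hx hy => rw [map_add, hx, hy]
  have hcoreC : Cfsg.pCore r C = ⊥ := by
    haveI : (Cfsg.pCore r C).Characteristic := Subgroup.characteristic_iff_map_le.2 fun φ =>
      CfsgLib.Solvable.le_pCore r (Subgroup.Normal.map inferInstance φ.toMonoidHom φ.surjective)
        ((CfsgLib.Solvable.isPGroup_pCore r).map φ.toMonoidHom)
    haveI : C.Normal := inferInstance
    have hn : ((Cfsg.pCore r C).map C.subtype).Normal := ConjAct.normal_of_characteristic_of_normal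
    have h := CfsgLib.Solvable.le_pCore r hn ((CfsgLib.Solvable.isPGroup_pCore r).map C.subtype)
    rw [hcore, le_bot_iff] at h
    exact (Subgroup.map_eq_bot_iff_of_injective _ C.subtype_injective).1 h
  have hRC := rb_of_family (r := r) (σ.comp C.subtype) (Group.isSolvable_of_isSolvable_injective C.subtype_injective)
    hcoreC (fun o => wS σ A (rep o)) hinvC hfC
  set μ : O → ℕ := fun o => finrank k (wS σ A (rep o)) with hμ
  have hμ1 : ∀ o, 1 ≤ μ o := fun o => Submodule.one_le_finrank_iff.2 (Quotient.out o).2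
  -- the dimension
  have hdim : e * ∑ o, μ o ≤ finrank k W := by
    let J := O × Fin e
    let f : J → (A →* kˣ) := fun x => rep x.1 ^ r ^ (x.2 : ℕ)
    have hf : ∀ x y, (∀ a ∈ A, extVal A (f x) a = extVal A (f y) a) → x = y := by
      intro x y h
      have h' : f x = f y := MonoidHom.ext fun a => Units.ext (by
        have := h a a.2
        rwa [extVal, extVal, dif_pos a.2, dif_pos a.2] at this)
      have ho := horb _ _ _ _ h'
      refine Prod.ext ho (Fin.ext ?_)
      simp only [f, ho] at h'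
      exact hfree _ _ _ x.2.2 y.2.2 h'
    let L : (∀ x : J, wS σ A (f x)) →ₗ[k] W :=
      { toFun := fun v => ∑ x, (v x : W)
        map_add' := fun v v' => by simp [Finset.sum_add_distrib]
        map_smul' := fun c v => by simp [Finset.smul_sum] }
    have hL : Function.Injective L := (injective_iff_map_eq_zero L).2 fun v hv => funext fun x =>
      Subtype.ext (eq_zero_of_sum_eq_zero σ A (fun x => extVal A (f x)) hf Finset.univ
        (fun x => (v x : W)) (fun x _ => (v x).2) hv x (Finset.mem_univ x))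
    have h1 := LinearMap.finrank_le_finrank_of_injective hL
    rw [Module.finrank_pi_fintype] at h1
    refine le_trans ?_ h1
    rw [Fintype.sum_prod_type, Finset.mul_sum]
    refine Finset.sum_le_sum fun o _ => ?_
    have hle : ∀ i : Fin e, μ o ≤ finrank k (wS σ A (f (o, i))) := by
      intro i
      let b := Module.finBasis k (wS σ A (rep o))
      have hli : LinearIndependent k (fun l => ((b l : wS σ A (rep o)) : W)) :=
        b.linearIndependent.map' (wS σ A (rep o)).subtype (Submodule.ker_subtype _)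
      let j : W →+ W :=
        { toFun := τ^[(i : ℕ)]
          map_zero' := Function.iterate_fixed (map_zero τ) _
          map_add' := fun x y => iterate_map_add τ _ x y }
      have hj1 : ∀ (n : ℕ) (c : k) v, τ^[n] (c • v) = c ^ r ^ n • τ^[n] v := by
        intro n
        induction n with
        | zero => intro c v; simp
        | succ n ih => intro c v; rw [Function.iterate_succ_apply', ih, hτs, Function.iterate_succ_apply',
            ← pow_mul, ← pow_succ]
      have h2 : LinearIndependent k (j ∘ fun l => ((b l : wS σ A (rep o)) : W)) :=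
        hli.map_of_surjective_injective (fun c => c ^ r ^ (i : ℕ)) j
          (fun c => IsAlgClosed.exists_pow_nat_eq c (pow_pos hr.pos _))
          (fun v hv => hτ.1.iterate _ (hv.trans (Function.iterate_fixed (map_zero τ) _).symm))
          fun c v => hj1 _ c v
      have h3 : LinearIndependent k (fun l => (⟨τ^[(i : ℕ)] (b l : W), hfri _ _ _ (b l).2⟩ :
          wS σ A (f (o, i)))) := LinearIndependent.of_comp (wS σ A (f (o, i))).subtype h2
      simpa [μ] using h3.fintype_card_le_finrank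
    calc e * μ o = ∑ _i : Fin e, μ o := by simp
      _ ≤ _ := Finset.sum_le_sum fun i _ => hle i
  -- the count
  have hRH := hRC.of_normal
  rw [RB] at hRH
  set G := ∏ o, gB (μ o) with hG
  have hG1 : 1 ≤ G := Finset.prod_induction _ (fun x : ℚ => 1 ≤ x) (fun _ _ => one_le_mul_of_one_le_of_one_le)
    le_rfl fun o _ => one_le_gB _
  have hqm : ((r ^ e : ℕ) : ℚ) ^ m * G ≤ (r : ℚ) ^ finrank k W := by
    calc ((r ^ e : ℕ) : ℚ) ^ m * G = ∏ o, ((r ^ e : ℕ) : ℚ) * gB (μ o) := by
          rw [Finset.prod_mul_distrib, Finset.prod_const, Finset.card_univ, hm, Nat.card_eq_fintype_card]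
      _ ≤ ∏ o, ((r ^ e : ℕ) : ℚ) ^ μ o :=
          Finset.prod_le_prod (fun o _ => mul_nonneg (Nat.cast_nonneg _) (gB_pos _).le)
            fun o _ => gB_le_pow (by omega) (hμ1 o)
      _ = (r : ℚ) ^ (e * ∑ o, μ o) := by rw [Finset.prod_pow_eq_pow_sum, Nat.cast_pow, ← pow_mul]
      _ ≤ _ := pow_le_pow_right₀ (by exact_mod_cast hr.one_le) hdim
  have htwo : ((r ^ e : ℕ) : ℚ) ^ m ≤ (K : ℚ) ^ 2 * ((e ^ t * T : ℕ) : ℚ) ^ 2 + 1 := by
    have hK0 : (0 : ℚ) ≤ K := Nat.cast_nonneg K
    have h1 : (Nat.card H : ℚ) ≤ ((e ^ t * T : ℕ) : ℚ) ^ 2 * G * K := by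
      refine hRH.trans (mul_le_mul ?_ (by exact_mod_cast hkK) (Nat.cast_nonneg _) (by positivity))
      exact mul_le_mul_of_nonneg_right (pow_le_pow_left₀ (Nat.cast_nonneg _) (by exact_mod_cast hj) 2)
        (zero_le_one.trans hG1)
    have h2 : (r : ℚ) ^ finrank k W ≤ (Nat.card H : ℚ) * K + 1 := by exact_mod_cast hV
    have h3 : ((r ^ e : ℕ) : ℚ) ^ m * G ≤ ((K : ℚ) ^ 2 * ((e ^ t * T : ℕ) : ℚ) ^ 2 + 1) * G := by
      have h4 : (Nat.card H : ℚ) * K ≤ ((e ^ t * T : ℕ) : ℚ) ^ 2 * G * K * K :=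
        mul_le_mul_of_nonneg_right h1 hK0
      nlinarith
    exact le_of_mul_le_mul_right h3 (zero_lt_one.trans_le hG1)
  exact class_bound_arith h53 hpq h107 h2e ht1 htm hT3 hone (by exact_mod_cast htwo)

end CfsgLib.FitIndex
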